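import Mathlib
import Cfsg.Prelude.Def_Local

/-!
A perfect group generated by 2-elements maps trivially into a group with cyclic Sylow 2-subgroups.
-/

set_option autoImplicit false

open scoped commutatorElement Pointwise

namespace CfsgLib.StdCo0

variable {G : Type*} [Group G] [Finite G]

theorem odd_of_perfect_cyclic (hp : commutator G = ⊤) (hc : ∀ P : Sylow 2 G, IsCyclic P) :
    ¬ 2 ∣ Nat.card G := by
  intro h2
  have hmin : (Nat.card G).minFac = 2 := Nat.minFac_eq_two_iff _ |>.2 h2
  haveI : Fact (Nat.Prime 2) := ⟨Nat.prime_two⟩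
  let P : Sylow 2 G := default
  have hle := (hc P).normalizer_le_centralizer hmin
  have hsurj : Function.Surjective (MonoidHom.transferSylow P hle) := by
    have hf : Function.Bijective
        ((MonoidHom.transferSylow P hle).domRestrict (P : Subgroup G)) :=
      (MonoidHom.transferSylow_domRestrict_eq_pow P hle).symm ▸
        (P.2.powEquiv' P.not_dvd_index).bijective
    intro y
    obtain ⟨x, hx⟩ := hf.2 y
    exact ⟨x, hx⟩
  have hker : commutator G ≤ (MonoidHom.transferSylow P hle).ker := by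
    rw [commutator_def, Subgroup.commutator_le]
    intro a _ b _
    rw [MonoidHom.mem_ker, map_commutatorElement]
    haveI := (hc P).isMulCommutative
    exact commutatorElement_eq_one_iff_mul_comm.2 (mul_comm' _ _)
  rw [hp] at hker
  have h1 : Nat.card P = 1 := by
    rw [Nat.card_eq_one_iff_unique]
    refine ⟨⟨fun a b => ?_⟩, ⟨1⟩⟩
    obtain ⟨x, rfl⟩ := hsurj a
    obtain ⟨y, rfl⟩ := hsurj b
    rw [MonoidHom.mem_ker.1 (hker (Subgroup.mem_top x)),
      MonoidHom.mem_ker.1 (hker (Subgroup.mem_top y))]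
  exact absurd h1 (by
    have := P.dvd_card_of_dvd_card h2
    omega)

/-- If a subgroup is generated by 2-elements lying in its derived group, it lies in every
subgroup normalised with a quotient whose Sylow 2-subgroups are cyclic. -/
theorem le_of_perfect {A K : Subgroup G} (hK : ∀ k ∈ K, ∀ a ∈ A, k * a = a * k)
    (hR : ∀ R : Sylow 2 K, IsCyclic R) {P : Subgroup G} {gens : Set G}
    (hP : P = Subgroup.closure gens) (htwo : ∀ g ∈ gens, g ^ 8 = 1)
    (hperf : gens ⊆ (⁅P, P⁆ : Subgroup G)) (hle : ∀ g ∈ gens, ∃ a ∈ A, ∃ k ∈ K, g = a * k) :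
    P ≤ A := by
  have hKn : K ≤ Subgroup.normalizer (A : Set G) := fun k hk => by
    rw [Subgroup.mem_normalizer_iff]
    intro a
    constructor
    · intro ha
      rw [hK k hk a ha, mul_inv_cancel_right]; exact ha
    · intro ha
      have := hK k hk _ ha
      have e : a = k * a * k⁻¹ :=
        (mul_left_cancel (by rw [this, inv_mul_cancel_right] : k * (k * a * k⁻¹) = k * a)).symm
      rw [e]; exact ha
  let N : Subgroup G := A ⊔ K
  have hNn : N ≤ Subgroup.normalizer (A : Set G) := sup_le Subgroup.le_normalizer hKn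
  haveI : (A.subgroupOf N).Normal := by
    constructor
    intro a ha n
    rw [Subgroup.mem_subgroupOf] at ha ⊢
    exact (Subgroup.mem_normalizer_iff.1 (hNn n.2) _).1 ha
  let q : N →* N ⧸ A.subgroupOf N := QuotientGroup.mk' _
  have hKq : Function.Surjective (q.comp (Subgroup.inclusion (le_sup_right : K ≤ N))) := by
    intro y
    obtain ⟨⟨n, hn⟩, rfl⟩ := QuotientGroup.mk'_surjective _ y
    have hn' : n ∈ ((A : Set G) * (K : Set G)) := by
      rw [← Subgroup.coe_mul_of_right_le_normalizer_left A K hKn]; exact hn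
    obtain ⟨a, ha, k, hk, rfl⟩ := hn'
    refine ⟨⟨k, hk⟩, ?_⟩
    show q _ = q _
    have hmk : (⟨a * k, hn⟩ : N) = ⟨a, le_sup_left (b := K) ha⟩ * ⟨k, le_sup_right (a := A) hk⟩ :=
      rfl
    have h1 : q ⟨a, le_sup_left (b := K) ha⟩ = 1 :=
      (QuotientGroup.eq_one_iff _).2 (Subgroup.mem_subgroupOf.2 ha)
    rw [hmk, map_mul, h1, one_mul]
    rfl
  haveI : Fact (Nat.Prime 2) := ⟨Nat.prime_two⟩
  have hcycQ : ∀ S : Sylow 2 (N ⧸ A.subgroupOf N), IsCyclic S := by
    intro S
    obtain ⟨R, hR'⟩ := Sylow.mapSurjective_surjective hKq 2 S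
    haveI := hR R
    rw [← hR']
    exact isCyclic_of_surjective _
      ((q.comp (Subgroup.inclusion (le_sup_right : K ≤ N))).subgroupMap_surjective (R : Subgroup K))
  have hPN : P ≤ N := by
    rw [hP, Subgroup.closure_le]
    intro g hg
    obtain ⟨a, ha, k, hk, rfl⟩ := hle g hg
    exact mul_mem (le_sup_left (b := K) ha) (le_sup_right (a := A) hk)
  let f : P →* N ⧸ A.subgroupOf N := q.comp (Subgroup.inclusion hPN)
  let H := f.range
  have hPperf : commutator P = ⊤ := by
    apply (Subgroup.map_injective P.subtype_injective)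
    rw [commutator_def, Subgroup.map_commutator, ← MonoidHom.range_eq_map, Subgroup.range_subtype]
    refine le_antisymm (Subgroup.commutator_le.2 fun a ha b hb =>
      mul_mem (mul_mem (mul_mem ha hb) (inv_mem ha)) (inv_mem hb)) ?_
    nth_rewrite 1 [hP]
    rw [Subgroup.closure_le]
    exact hperf
  have hHperf : commutator H = ⊤ := by
    have hs := f.rangeRestrict_surjective
    rw [← Subgroup.map_top_of_surjective _ hs, ← hPperf, commutator_def, commutator_def,
      Subgroup.map_commutator, Subgroup.map_top_of_surjective _ hs]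
  have hcycH : ∀ S : Sylow 2 H, IsCyclic S := by
    intro S
    obtain ⟨T, hT⟩ := (S.2.map H.subtype).exists_le_sylow
    haveI := hcycQ T
    have hm : IsCyclic ↥((S : Subgroup H).map H.subtype) :=
      Subgroup.isCyclic_of_le hT
    exact ((S : Subgroup H).equivMapOfInjective _ H.subtype_injective).isCyclic.2 hm
  have hodd := odd_of_perfect_cyclic hHperf hcycH
  intro p hp
  have key : ∀ x : P, f x = 1 := by
    have hgen : ∀ g : P, (g : G) ∈ gens → f g = 1 := by
      intro g hg
      have h8 : f g ^ 8 = 1 := by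
        rw [← map_pow, show g ^ 8 = 1 from Subtype.ext (htwo _ hg), map_one]
      have hd : orderOf (⟨f g, ⟨g, rfl⟩⟩ : H) ∣ 2 ^ 3 := orderOf_dvd_of_pow_eq_one
        (Subtype.ext h8)
      obtain ⟨j, -, hj⟩ := (Nat.dvd_prime_pow Nat.prime_two).1 hd
      rcases Nat.eq_zero_or_pos j with rfl | hj0
      · exact congrArg Subtype.val (orderOf_eq_one_iff.1 hj)
      · exact absurd ((dvd_pow_self 2 hj0.ne').trans (hj ▸ orderOf_dvd_natCard _)) hodd
    rintro ⟨x, hx⟩
    have hx' := hx
    rw [hP] at hx'
    induction hx' using Subgroup.closure_induction with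
    | mem y hy => exact hgen ⟨y, hx⟩ hy
    | one => exact map_one f
    | mul a b ha hb iha ihb =>
      have ha' : a ∈ P := hP ▸ ha
      have hb' : b ∈ P := hP ▸ hb
      rw [show (⟨a * b, hx⟩ : P) = ⟨a, ha'⟩ * ⟨b, hb'⟩ from rfl, map_mul, iha ha', ihb hb',
        one_mul]
    | inv a ha iha =>
      have ha' : a ∈ P := hP ▸ ha
      rw [show (⟨a⁻¹, hx⟩ : P) = ⟨a, ha'⟩⁻¹ from rfl, map_inv, iha ha', inv_one]
  exact Subgroup.mem_subgroupOf.1 ((QuotientGroup.eq_one_iff _).1 (key ⟨p, hp⟩))

end CfsgLib.StdCo0
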