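import Mathlib

/-! Generated data for the monomial elements used in the classification of involutions. -/

set_option autoImplicit false

namespace CfsgLib.StdCo0.Data

/-- data -/
def octU : ℕ :=
  5279

/-- data -/
def hexU : ℕ :=
  16771936

/-- data -/
def dodU : ℕ :=
  28637

/-- data -/
def freeC : ℕ :=
  761641

/-- data -/
def invFreeShift : List ℕ :=
  [0,5279,10558,15777,36294,39257,42232,45159,69395,72588,75309,78514,99029,104010,109547,114548,133817,138790,140167,145176,165759,168928,175681,178910,198058,201013,208020,210955,231532,236787,237906,243149,525274,530245,535268,540283,560668,563843,567074,570301,593097,596054,599543,602472,622863,628112,632881,638126,657763,663036,663645,668866,689317,692282,699803,702724,722544,725743,733006,736209,756662,761641,762504,767511]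

/-- data -/
def invFreeReps : List ℕ :=
  [0,761641]

/-- data -/
def invOctadShift : List ℕ :=
  [0,10558,36294,42232,69395,75309,99029,109547,262637,272595,298027,304405,331518,337856,361272,371206]

/-- data -/
def invOctadReps : List ℕ :=
  [0,5279,18147,21116,165759,168928,180636,185603,8421811,8426796,8439632,8442831,8521420,8524371,8536111,8541360]

/-- data -/
def witnesses : List (ℕ × ℕ × ℕ × List ℕ × List ℕ × ℕ) :=
  [
    (0, 0, 7553498, [18,8,15,9,2,1,10,7,4,20,19,12,23,22,0,16,3,6,17,5,13,14,11,21], [14,5,4,16,8,19,17,7,1,3,6,22,11,20,21,2,15,18,0,10,9,23,13,12], 12819145),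
    (1, 0, 2738308, [11,8,16,4,5,3,13,6,9,22,7,18,14,15,17,10,1,19,23,0,20,2,12,21], [19,16,21,5,3,4,7,10,1,8,15,0,22,6,12,13,2,14,11,17,20,23,9,18], 4470275),
    (1, 5279, 9168926, [0,23,1,2,19,9,16,21,12,22,6,13,7,3,10,18,11,15,14,8,5,17,4,20], [0,2,3,13,22,20,10,12,19,5,14,16,8,11,18,17,6,21,15,4,23,7,9,1], 11432145),
    (1, 18147, 14745558, [18,11,19,6,14,4,12,13,9,8,16,21,17,0,22,10,23,3,15,1,2,20,7,5], [13,19,20,17,5,23,3,22,9,8,15,1,6,7,4,18,10,12,0,2,21,11,14,16], 15019666),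
    (1, 21116, 391290, [7,6,16,22,5,17,4,9,8,13,20,21,3,18,14,12,1,10,23,0,11,2,19,15], [19,16,21,12,6,4,1,0,8,7,17,20,15,9,14,23,2,5,13,22,10,11,3,18], 15681580),
    (1, 165759, 8241104, [17,5,2,23,11,12,15,7,16,9,8,13,21,14,6,22,20,18,1,10,3,0,4,19], [21,18,2,20,22,1,14,7,10,9,19,4,5,11,13,6,8,0,17,23,16,12,15,3], 1342747),
    (1, 168928, 8286559, [4,22,3,17,19,9,1,20,2,0,7,8,10,5,21,23,11,15,16,12,14,13,18,6], [9,6,8,2,0,13,23,10,11,5,12,16,19,21,20,17,18,3,22,4,7,14,1,15], 14059292),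
    (1, 180636, 13791349, [13,16,11,12,23,17,19,2,8,21,5,10,14,6,1,18,4,0,15,22,7,20,9,3], [17,14,7,23,16,10,13,20,8,22,11,2,3,0,12,18,1,5,15,6,21,9,19,4], 15212055),
    (1, 185603, 8694112, [9,10,5,3,8,12,13,11,15,16,21,2,6,23,19,20,17,7,22,14,1,4,0,18], [22,20,11,3,21,2,12,17,4,0,1,7,5,6,19,8,9,16,23,14,15,10,18,13], 8044757),
    (1, 8421811, 3489985, [1,0,21,7,22,13,3,4,23,14,9,8,20,18,15,2,19,10,17,6,12,5,11,16], [1,0,15,6,7,21,19,3,11,10,17,22,20,5,9,14,23,18,13,16,12,2,4,8], 6498739),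
    (1, 8426796, 10959611, [0,23,3,14,15,12,4,20,17,22,8,6,18,13,10,5,2,9,21,1,16,19,7,11], [0,19,16,2,6,15,11,22,10,17,14,23,5,13,3,4,20,8,12,21,7,18,9,1], 8747465),
    (1, 8439632, 12965758, [1,0,12,18,15,13,17,4,14,5,20,21,16,11,10,3,19,22,2,6,8,23,7,9], [1,0,18,15,7,9,19,22,20,23,14,13,2,5,8,4,12,6,3,16,10,11,17,21], 11966116),
    (1, 8442831, 15060105, [5,3,22,4,20,9,21,2,11,7,15,8,0,14,1,18,19,10,16,6,17,13,12,23], [12,14,7,1,3,0,19,9,11,5,17,8,22,21,13,10,18,20,15,16,4,6,2,23], 13111679),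
    (1, 8521420, 3750324, [7,6,2,0,13,16,23,10,8,1,20,21,22,11,4,18,5,15,14,3,12,17,19,9], [3,9,2,19,14,16,1,0,8,23,7,13,20,4,18,17,5,21,15,22,10,11,12,6], 3857925),
    (1, 8524371, 8994077, [1,23,17,5,15,19,2,21,16,0,6,14,10,8,7,4,11,20,13,18,12,22,3,9], [9,0,6,22,15,3,10,14,13,23,12,16,20,18,11,4,8,2,19,5,17,7,21,1], 9672498),
    (1, 8536111, 427666, [6,21,7,19,18,14,15,8,13,20,11,9,12,1,17,4,22,5,0,16,2,23,10,3], [18,13,20,23,15,17,0,2,7,11,22,10,12,8,5,6,19,14,4,3,9,1,16,21], 13321897),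
    (1, 8541360, 6888817, [16,4,14,17,19,2,18,7,5,8,1,20,0,11,21,3,22,6,9,13,12,15,10,23], [12,10,5,15,1,8,17,7,9,18,22,13,20,19,2,21,0,3,6,4,11,14,16,23], 11262679)]

/-- data -/
def octGens : List (List ℕ) :=
  [[10,1,2,12,4,6,5,7,16,9,0,11,3,19,14,20,8,22,21,13,15,18,17,23],[3,12,2,0,4,8,6,7,5,20,10,16,1,17,14,21,11,13,18,19,9,15,23,22],[2,12,0,7,10,5,6,3,8,14,4,11,1,13,9,15,21,22,18,20,19,16,17,23]]

/-- data -/
def dodGens : List (List ℕ) :=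
  [[9,21,8,13,7,19,14,4,2,0,11,10,15,3,6,12,18,23,16,5,22,1,20,17],[2,22,0,6,13,5,3,7,8,11,10,9,20,4,14,15,23,19,18,17,12,21,1,16],[8,1,6,7,4,18,2,3,0,10,9,11,19,13,14,22,16,23,5,12,20,21,15,17]]

/-- data -/
def fourGens : List (ℕ × List ℕ) :=
  [(2331547, [11,22,9,6,23,10,3,5,21,2,14,0,17,16,7,18,20,4,8,13,19,15,1,12]),
    (8407702, [1,0,17,7,13,15,10,9,4,23,2,22,8,12,20,14,16,6,18,19,5,21,11,3]),
    (366503, [2,3,22,11,12,14,1,17,16,0,23,6,4,21,5,19,20,7,8,13,18,15,9,10])]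

/-- data -/
def fourInvs : List (ℕ × List ℕ) :=
  [(15104324, [11,22,9,6,17,7,3,14,18,2,5,0,23,19,10,21,13,12,15,20,16,8,1,4]),
    (4229001, [1,0,10,23,8,20,17,3,12,7,6,22,13,4,15,5,16,2,18,19,14,21,11,9]),
    (16139089, [9,6,0,1,12,14,11,17,18,22,23,3,4,19,5,21,8,7,20,15,16,13,2,10])]

/-- data -/
def fourComm : List (List (List ℕ × List ℕ)) :=
  [[([0],[1,2,1]),([1,0,1,2,0],[2,2,1,0,0])],[([0],[2]),([0,1,2,0,1],[0,2,1,0,1])],[([0],[1]),([0,1,0,0,2],[0,1,2,0,1])]]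

/-- data -/
def fourZ : List ℕ :=
  [0,0,2,2,0,0,2,2]

/-- data -/
def octPerfComm : List (List (List ℕ × List ℕ)) :=
  [[([1,0,2,1,2,0],[1,0,1,2,1,2])],
    [([2,1,2],[0,1,0,1,2,1,2,0])],
    [([0,2,0,1,0,1],[0,2,0,1,0,1,2])],
    [([0],[5]),([1],[3]),([1],[4]),([1],[5]),([2],[4])],
    [([1],[5]),([2],[4])],
    [([0],[5]),([1],[3]),([1],[4]),([2],[3]),([2],[4])],
    [([0],[5])],
    [([0],[3]),([0],[4]),([0],[5]),([1],[3]),([1],[4]),([2],[7])],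
    [([0],[4]),([0],[5]),([1],[8]),([2],[4])],
    [([0],[4]),([0],[5]),([0],[8]),([1],[8]),([2],[4])],
    [([0],[5]),([1],[5]),([2],[4]),([2],[6])],
    [([0],[4]),([0],[5])],
    [([2],[4])],
    [([0],[3]),([0],[4]),([0],[5]),([1],[3]),([1],[4]),([1],[5]),([2],[4])],
    [([1],[4])]]

/-- data -/
def dodPerfComm : List (List (List ℕ × List ℕ)) :=
  [[([2,0,2,0,2,0,1,2,1,0,2,1,0,1,2,1,0,2],[1,0,1,0,1,2,1,2,1,2,0,2,1,0,2,1,0,1,2])],
    [([0,2,0,1],[2,0,1,2,0,2,0,1,2])],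
    [([1,2,1,2,1],[0,2,0,2,0,2,0])],
    [([0],[4]),([0],[5]),([0],[6]),([2],[3]),([2],[5])],
    [([0],[4]),([0],[6]),([1],[4]),([1],[6])],
    [([0],[5]),([1],[3]),([1],[4]),([1],[6]),([2],[3]),([2],[5])],
    [([0],[5]),([0],[6]),([1],[3]),([2],[3])],
    [([1],[4])],
    [([0],[4]),([1],[4]),([1],[6])],
    [([0],[4]),([0],[5]),([1],[3]),([2],[3])],
    [([0],[4]),([0],[5]),([0],[6]),([0],[7]),([1],[3]),([1],[6]),([2],[3])],
    [([0],[5]),([0],[6]),([1],[4]),([1],[6]),([2],[5])],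
    [([0],[3]),([0],[6]),([1],[3]),([2],[5])],
    [([0],[3]),([0],[4]),([0],[5]),([0],[6]),([0],[13]),([1],[12]),([2],[3]),([2],[5])],
    [([0],[3]),([0],[4]),([1],[3]),([1],[4]),([1],[6]),([1],[12]),([2],[5])]]

end CfsgLib.StdCo0.Data
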